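import Groth.Agent.H23.CoverPush
import Groth.Agent.NormX.GenericAmple
import Groth.Agent.NormX.FreeAmple
import Groth.Agent.AmpleX.QuasiAffine

/-!
# Quasi-affineness descends along finite surjective morphisms with a norm
-/

universe u

open CategoryTheory CategoryTheory.Limits AlgebraicGeometry TopologicalSpace Opposite

set_option backward.isDefEq.respectTransparency false
set_option backward.isDefEq.respectTransparency.types false

namespace Groth.Agent.NormQA

open Groth.Agent Groth.Agent.H23 Groth.Agent.H23.CoverPush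

variable {X Y : Scheme.{u}} (f : X ⟶ Y)

/-- The direct image of the structure sheaf of a finite locally free morphism is finite locally free. -/
theorem isFinLocFree_push_structureModule (h : Mor2.IsFinLocFree f) :
    FlatMod.IsFinLocFree ((Scheme.Modules.pushforward f).obj (Coh.structureModule X)) := by
  haveI := h.1
  haveI := h.2.1
  haveI := h.2.2
  have hq : Coh.IsQCoh ((Scheme.Modules.pushforward f).obj (Coh.structureModule X)) :=
    QCoh.isQCoh_pushforward f QCoh.isQCoh_structureModule
  intro y
  obtain ⟨_, ⟨U, hU, rfl⟩, hy, hUd⟩ := Y.isBasis_affineOpens.exists_subset_of_mem_open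
    (show y ∈ Scheme.Hom.finrank f ⁻¹' {f.finrank y} from rfl)
    (f.isLocallyConstant_finrank.isOpen_fiber _)
  have hU' : IsAffineOpen U := hU
  letI := alg f U
  have h := isPullback_fromSpec f hU'
  haveI : IsFinite (Spec.map (f.app U)) := MorphismProperty.of_isPullback h.flip inferInstance
  haveI : Flat (Spec.map (f.app U)) := MorphismProperty.of_isPullback h.flip inferInstance
  haveI : LocallyOfFinitePresentation (Spec.map (f.app U)) := MorphismProperty.of_isPullback h.flip inferInstance
  haveI : Module.Finite Γ(Y, U) Γ(X, f ⁻¹ᵁ U) := (IsFinite.SpecMap_iff (f.app U)).mp inferInstance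
  haveI : Module.Flat Γ(Y, U) Γ(X, f ⁻¹ᵁ U) := Flat.SpecMap_iff.mp (inferInstanceAs (Flat (Spec.map (f.app U))))
  have hrk : ∀ z (hz : z ∈ U),
      Module.rankAtStalk (R := Γ(Y, U)) Γ(X, f ⁻¹ᵁ U) (hU'.primeIdealOf ⟨z, hz⟩) = f.finrank y := fun z hz =>
    (CoverPush.finrank_eq f hU' hz).symm.trans (hUd hz)
  obtain ⟨a, ha, hfree⟩ := Module.Free.away_of_finite_of_flat_of_rankAtStalk_constant Γ(X, f ⁻¹ᵁ U)
    (hU'.primeIdealOf ⟨y, hy⟩).asIdeal fun m hm => by
      obtain ⟨z, hz, e⟩ := QCoh.exists_point hU' ⟨m, hm.isPrime⟩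
      rw [← e]
      exact (hrk z hz).trans (hrk y hy).symm
  let M := (Scheme.Modules.pushforward f).obj (Coh.structureModule X)
  have e0 : Γ(M, U) ≃ₗ[Γ(Y, U)] Γ(X, f ⁻¹ᵁ U) :=
    { toFun := fun x => x, invFun := fun x => x, left_inv := fun _ => rfl, right_inv := fun _ => rfl,
      map_add' := fun _ _ => rfl, map_smul' := fun _ _ => rfl }
  haveI : Module.Finite Γ(Y, U) Γ(M, U) := Module.Finite.equiv e0.symm
  haveI : Module.Free (Localization.Away a) (LocalizedModule.Away a Γ(M, U)) :=
    Module.Free.of_equiv (IsLocalizedModule.mapEquiv (Submonoid.powers a)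
      (LocalizedModule.mkLinearMap (Submonoid.powers a) Γ(X, f ⁻¹ᵁ U))
      (LocalizedModule.mkLinearMap (Submonoid.powers a) Γ(M, U)) (Localization.Away a) e0.symm)
  obtain ⟨n, hn⟩ := QCoh.exists_free_nhd hq hU' a inferInstance
  exact ⟨Y.basicOpen a, n, (QCoh.mem_basicOpen_iff_notMem hU' hy a).2 ha, hn⟩

open NormX in
/-- The structure sheaves correspond under every norm. -/
noncomputable def structureDatum (N : WNorm f) :
    Datum N ⊤ (Coh.structureModule X) (Coh.structureModule Y) where
  ι := PUnit
  U _ := ⊤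
  cov _ _ := ⟨PUnit.unit, trivial⟩
  e _ := show Γ(Coh.structureModule X, f ⁻¹ᵁ ⊤) from (1 : Γ(X, f ⁻¹ᵁ ⊤))
  he _ := InvX.isFrame_one _
  f _ := show Γ(Coh.structureModule Y, ⊤) from (1 : Γ(Y, ⊤))
  hf _ := InvX.isFrame_one _
  compat _ _ V hi _ c h := by
    have hc : c = 1 := by
      refine (InvX.isFrame_one (X := X) (f ⁻¹ᵁ ⊤)).coord_unique (f.preimage_mono hi) ?_
      rw [one_smul]
      exact h.symm
    rw [hc, (N.norm V).map_one, one_smul]

open NormX in
/-- A scheme receiving a finite surjective morphism with a norm from a quasi-affine scheme is quasi-affine. -/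
theorem isQuasiAffine_of_norm [IsFinite f] [Surjective f] (N : WNorm f) (hX : X.IsQuasiAffine) :
    Y.IsQuasiAffine := by
  haveI := hX
  exact AmpleX.isQuasiAffine_of_isAmple (isAmple_of_datum (structureDatum f N)
    (AmpleX.isAmple_of_isQuasiAffine InvX.isInvertible_structureModule))

end Groth.Agent.NormQA
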